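import Cfsg.Agent.Lib.Small.Basic

/-!
Normalisers of Sylow subgroups of prime order in a simple group.
-/

set_option autoImplicit false
set_option linter.unusedSectionVars false

namespace CfsgLib.JThree.PLocal

open Subgroup

variable {G : Type*} [Group G] [Finite G]

/-- The automiser of `P`. -/
noncomputable def aut (P : Subgroup G) : Subgroup (MulAut P) := P.normalizerMonoidHom.range

theorem card_normalizer (P : Subgroup G) :
    Nat.card (normalizer (P : Set G)) = Nat.card (centralizer (P : Set G)) * Nat.card (aut P) := by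
  rw [Subgroup.card_eq_card_quotient_mul_card_subgroup P.normalizerMonoidHom.ker, mul_comm,
    Nat.card_congr (QuotientGroup.quotientKerEquivRange P.normalizerMonoidHom).toEquiv,
    normalizerMonoidHom_ker,
    Nat.card_congr (subgroupOfEquivOfLe (CfsgLib.Small.centralizer_le_normalizer' P)).toEquiv]
  rfl

variable {p : ℕ} [hp : Fact p.Prime]

theorem card_mulAut {P : Subgroup G} (hP : Nat.card P = p) :
    Nat.card (MulAut P) = p - 1 ∧ IsCyclic (MulAut P) := by
  haveI : IsCyclic P := isCyclic_of_prime_card hP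
  refine ⟨?_, ?_⟩
  · rw [IsCyclic.card_mulAut, hP, Nat.totient_prime hp.out]
  · haveI : IsCyclic (ZMod (Nat.card P))ˣ := by rw [hP]; infer_instance
    exact isCyclic_of_surjective (IsCyclic.mulAutMulEquiv P).symm.toMonoidHom
      (IsCyclic.mulAutMulEquiv P).symm.surjective

theorem card_aut_dvd {P : Subgroup G} (hP : Nat.card P = p) :
    Nat.card (aut P) ∣ p - 1 ∧ IsCyclic (aut P) := by
  obtain ⟨h1, h2⟩ := card_mulAut hP
  exact ⟨h1 ▸ card_subgroup_dvd_card _, inferInstance⟩

theorem le_centralizer_of_card {P : Subgroup G} (hP : Nat.card P = p) : P ≤ centralizer (P : Set G) := by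
  haveI : IsCyclic P := isCyclic_of_prime_card hP
  exact P.le_centralizer

/-- The numerical data of a Sylow subgroup of prime order. -/
theorem data [IsSimpleGroup G] (hnc : ¬ IsMulCommutative G) {M : ℕ} (hG : Nat.card G = p * M)
    (P : Sylow p G) (hP : Nat.card (P : Subgroup G) = p) :
    ∃ m n : ℕ, Nat.card (centralizer ((P : Subgroup G) : Set G)) = p * m ∧ n % p = 1 ∧
      m * Nat.card (aut (P : Subgroup G)) * n = M ∧ Nat.card (aut (P : Subgroup G)) ≠ 1 ∧
      Nat.card (aut (P : Subgroup G)) ∣ p - 1 := by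
  obtain ⟨m, hm⟩ : p ∣ Nat.card (centralizer ((P : Subgroup G) : Set G)) := by
    have h := card_dvd_of_le (le_centralizer_of_card hP)
    rwa [hP] at h
  have hn := card_sylow_modEq_one p G
  rw [Nat.ModEq, Nat.one_mod_eq_one.2 hp.out.ne_one] at hn
  refine ⟨m, Nat.card (Sylow p G), hm, hn, ?_, fun h1 => ?_, (card_aut_dvd hP).1⟩
  · have h : Nat.card (normalizer ((P : Subgroup G) : Set G)) * Nat.card (Sylow p G) = Nat.card G := by
      rw [P.card_eq_index_normalizer]; exact Subgroup.card_mul_index _
    rw [card_normalizer, hm, hG] at h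
    refine Nat.eq_of_mul_eq_mul_left hp.out.pos ?_
    rw [← h]; ring
  · refine CfsgLib.Small.not_normalizer_le_centralizer hnc (hG ▸ dvd_mul_right p M) P ?_
    intro g hg
    have hbot := Subgroup.card_eq_one.1 h1
    have : (P : Subgroup G).normalizerMonoidHom ⟨g, hg⟩ = 1 :=
      mem_bot.1 (hbot ▸ MonoidHom.mem_range.2 ⟨⟨g, hg⟩, rfl⟩)
    have hk : (⟨g, hg⟩ : normalizer ((P : Subgroup G) : Set G)) ∈ (P : Subgroup G).normalizerMonoidHom.ker :=
      this
    rw [normalizerMonoidHom_ker, mem_subgroupOf] at hk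
    exact hk

/-- The quotient of the normaliser by a self-centralising Sylow subgroup. -/
theorem quotient (P : Subgroup G) (hC : centralizer (P : Set G) = P) (hcyc : IsCyclic (aut P)) :
    ∃ h : (P.subgroupOf (normalizer (P : Set G))).Normal,
      IsCyclic (↥(normalizer (P : Set G)) ⧸ P.subgroupOf _) ∧
      Nat.card (↥(normalizer (P : Set G)) ⧸ P.subgroupOf _) = Nat.card (aut P) := by
  have hk : P.normalizerMonoidHom.ker = P.subgroupOf (normalizer (P : Set G)) := by
    rw [normalizerMonoidHom_ker, hC]
  have hn : (P.subgroupOf (normalizer (P : Set G))).Normal := hk ▸ inferInstance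
  refine ⟨hn, ?_⟩
  let e : (↥(normalizer (P : Set G)) ⧸ P.subgroupOf _) ≃* aut P :=
    (QuotientGroup.quotientMulEquivOfEq hk.symm).trans
      (QuotientGroup.quotientKerEquivRange P.normalizerMonoidHom)
  exact ⟨isCyclic_of_surjective e.symm.toMonoidHom e.symm.surjective, Nat.card_congr e.toEquiv⟩

end CfsgLib.JThree.PLocal
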