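import Cfsg.Agent.Lib.JThree.PLocal.Basic
import Cfsg.Agent.Lib.Characters.Galois
import Cfsg.Agent.Lib.Characters.Decomp
import Cfsg.Agent.Lib.Characters.Values

/-!
Four rational irreducible characters of degree `±1` modulo 19 forbid a centraliser of order 57 with an
automiser of order three.
-/

set_option autoImplicit false
set_option linter.unusedSectionVars false
set_option linter.style.haveILetI false
set_option maxRecDepth 10000

namespace CfsgLib.JThree.PLocal

open Subgroup Cfsg CfsgLib.Characters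
open scoped ComplexConjugate

theorem lift_exp : ∀ i : Fin 57, ¬ 19 ∣ i.val → ∃ j : Fin 20,
    (if i.val % 3 = 0 then i.val / 3 + 19 * j.val else i.val + 57 * j.val).Coprime 50232960 := by
  decide +kernel

theorem count_T : ((Finset.range 57).filter fun i => ¬ 19 ∣ i).card = 54 ∧
    ((Finset.range 57).filter fun i => ¬ 19 ∣ i ∧ i % 3 = 0).card = 18 ∧
    ((Finset.range 57).filter fun i => ¬ 19 ∣ i ∧ ¬ i % 3 = 0).card = 36 := by decide +kernel

theorem geom_root {z : ℂ} {n : ℕ} (hz : z ^ n = 1) :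
    ∑ k ∈ Finset.range n, z ^ k = if z = 1 then (n : ℂ) else 0 := by
  split_ifs with h
  · simp [h]
  · rw [geom_sum_eq h, hz, sub_self, zero_div]

variable {G : Type*} [Group G] [Fintype G]

/-- The sum of squares of character sums over a set with small centralisers and fusion. -/
theorem sum_sq_le (T : Finset G) (c k : ℕ)
    (hC : ∀ s ∈ T, Nat.card (centralizer ({s} : Set G)) ≤ c)
    (hk : ∀ s ∈ T, ∀ [DecidablePred (IsConj s)], (T.filter (IsConj s)).card ≤ k)
    (F : Finset (IrrCharacter G)) (v : IrrCharacter G → ℤ)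
    (hv : ∀ χ ∈ F, ∑ s ∈ T, (χ : G → ℂ) s = v χ) : ∑ χ ∈ F, v χ * v χ ≤ (T.card * k * c : ℕ) := by
  classical
  have h1 : ∑ χ : IrrCharacter G, (Complex.normSq (∑ s ∈ T, (χ : G → ℂ) s) : ℝ) =
      ∑ s ∈ T, ((T.filter (IsConj s)).card * Nat.card (centralizer ({s} : Set G)) : ℕ) := by
    have h2 : ∑ χ : IrrCharacter G, (∑ s ∈ T, (χ : G → ℂ) s) * conj (∑ s' ∈ T, (χ : G → ℂ) s') =
        ∑ s ∈ T, ((((T.filter (IsConj s)).card * Nat.card (centralizer ({s} : Set G)) : ℕ)) : ℂ) := by
      simp only [map_sum]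
      rw [Finset.sum_congr rfl fun χ _ => Finset.sum_mul_sum .., Finset.sum_comm]
      refine Finset.sum_congr rfl fun s _ => ?_
      rw [Finset.sum_comm, Finset.sum_congr rfl fun s' _ => column_orth s s', ← Finset.sum_filter,
        Finset.sum_const, nsmul_eq_mul]
      push_cast; ring
    simp only [Complex.mul_conj] at h2
    exact_mod_cast h2
  have h3 : ((∑ χ ∈ F, v χ * v χ : ℤ) : ℝ) ≤ ((T.card * k * c : ℕ) : ℝ) := by
    calc ((∑ χ ∈ F, v χ * v χ : ℤ) : ℝ) = ∑ χ ∈ F, Complex.normSq (∑ s ∈ T, (χ : G → ℂ) s) := by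
          push_cast
          refine Finset.sum_congr rfl fun χ hχ => ?_
          rw [hv χ hχ, ← Complex.ofReal_intCast, Complex.normSq_ofReal]
      _ ≤ ∑ χ : IrrCharacter G, Complex.normSq (∑ s ∈ T, (χ : G → ℂ) s) :=
          Finset.sum_le_univ_sum_of_nonneg fun _ => Complex.normSq_nonneg _
      _ ≤ _ := by
          rw [h1]
          refine le_trans (Nat.cast_le.2 (Finset.sum_le_sum fun s hs => Nat.mul_le_mul (hk s hs) (hC s hs))) ?_
          rw [Finset.sum_const, smul_eq_mul, mul_assoc]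
  exact_mod_cast h3

/-- A rational character. -/
def IsRat (χ : IrrCharacter G) : Prop :=
  ∀ (τ : ℂ ≃+* ℂ) (g : G), τ ((χ : G → ℂ) g) = (χ : G → ℂ) g

theorem isChar_irr' (χ : IrrCharacter G) : IsCharacter G (χ : G → ℂ) := by
  obtain ⟨n, ρ, -, h⟩ := χ.2
  exact ⟨n, ρ, h⟩

theorem rat_pow {χ : IrrCharacter G} (hχ : IsRat χ) (g : G) {m : ℕ} (hm : m.Coprime (Nat.card G)) :
    (χ : G → ℂ) (g ^ m) = (χ : G → ℂ) g := by
  haveI : NeZero (Nat.card G) := ⟨Nat.card_pos.ne'⟩
  obtain ⟨σ, hσ⟩ := CfsgLib.CharGalois.exists_autComplex (Nat.card G) hm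
  rw [← CfsgLib.CharGalois.map_char_eq_pow (isChar_irr' χ) σ hσ g, hχ σ g]

theorem rat_int {χ : IrrCharacter G} (hχ : IsRat χ) (g : G) : ∃ a : ℤ, (χ : G → ℂ) g = a := by
  obtain ⟨q, hq⟩ := CfsgLib.CharGalois.exists_rat_char (isChar_irr' χ) g fun m hm => rat_pow hχ g hm
  obtain ⟨a, ha⟩ := exists_int_of_isIntegral_rat (hq ▸ isIntegral_of_isCharacter (isChar_irr' χ) g)
  exact ⟨a, by rw [hq, ← ha]; simp⟩

/-- The two values on an element of order 57 and their congruences. -/
theorem two_values {χ : IrrCharacter G} (hχ : IsRat χ) (hG : Nat.card G = 50232960) {y : G}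
    (hy : orderOf y = 57) {d : ℕ} (hd : (χ : G → ℂ) 1 = d) :
    ∃ a b : ℤ, (∀ i < 57, ¬ 19 ∣ i → (χ : G → ℂ) (y ^ i) = if i % 3 = 0 then (a : ℂ) else b) ∧
      (19 : ℤ) ∣ (d : ℤ) + 18 * a ∧ (3 : ℤ) ∣ a + 2 * b := by
  classical
  obtain ⟨a, ha⟩ := rat_int hχ (y ^ 3)
  obtain ⟨b, hb⟩ := rat_int hχ y
  have hval : ∀ i < 57, ¬ 19 ∣ i → (χ : G → ℂ) (y ^ i) = if i % 3 = 0 then (a : ℂ) else b := by
    intro i hi h19
    obtain ⟨j, hj⟩ := lift_exp ⟨i, hi⟩ h19
    simp only at hj
    rw [← hG] at hj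
    split_ifs with h3 <;> simp only [h3, if_true, if_false] at hj
    · rw [← ha, ← rat_pow hχ (y ^ 3) hj, ← pow_mul]
      congr 1
      rw [pow_eq_pow_mod (3 * (i / 3 + 19 * j.val)) (show y ^ 57 = 1 from hy ▸ pow_orderOf_eq_one y),
        show 3 * (i / 3 + 19 * j.val) = i + 57 * j.val by omega, Nat.add_mul_mod_self_left,
        Nat.mod_eq_of_lt hi]
    · rw [← hb, ← rat_pow hχ y hj]
      congr 1
      rw [pow_eq_pow_mod (i + 57 * j.val) (show y ^ 57 = 1 from hy ▸ pow_orderOf_eq_one y),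
        Nat.add_mul_mod_self_left, Nat.mod_eq_of_lt hi]
  refine ⟨a, b, hval, ?_⟩
  obtain ⟨N, z, hz, hz'⟩ := CfsgLib.CharGalois.exists_root_decomp
    (CfsgLib.CharGalois.isCharacter_comp (isChar_irr' χ) (zpowers y).subtype) (⟨y, mem_zpowers y⟩ : zpowers y)
  have hpow : ∀ k : ℕ, (χ : G → ℂ) (y ^ k) = ∑ l, z l ^ k := fun k => by rw [← hz' k]; rfl
  rw [Nat.card_zpowers, hy] at hz
  constructor
  · -- modulo 19
    have h1 : ((d : ℤ) + 18 * a : ℂ) = ∑ k ∈ Finset.range 19, (χ : G → ℂ) (y ^ (3 * k)) := by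
      rw [Finset.sum_range_succ']
      rw [Finset.sum_congr rfl (g := fun _ => (a : ℂ)) fun k hk => by
        have := Finset.mem_range.1 hk
        rw [hval _ (by omega) (by omega), if_pos (by omega)]]
      simp [hd]; ring
    have h2 : ((d : ℤ) + 18 * a : ℂ) = (((19 * (Finset.univ.filter fun l => z l ^ 3 = 1).card : ℕ) : ℤ) : ℂ) := by
      rw [h1]
      rw [Finset.sum_congr rfl fun k _ => hpow (3 * k)]
      simp only [pow_mul]
      rw [Finset.sum_comm, Finset.sum_congr rfl fun l _ => geom_root (n := 19) (z := z l ^ 3) (by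
        rw [← pow_mul]; exact hz l), ← Finset.sum_filter, Finset.sum_const, nsmul_eq_mul]
      push_cast; ring
    have h3 : (d : ℤ) + 18 * a = ((19 * (Finset.univ.filter fun l => z l ^ 3 = 1).card : ℕ) : ℤ) := by
      exact_mod_cast h2
    exact ⟨_, by rw [h3]; push_cast; rfl⟩
  · -- modulo 3
    have h1 : ((a + 2 * b : ℤ) : ℂ) = (χ : G → ℂ) (y ^ (3 + 19 * 0)) + (χ : G → ℂ) (y ^ (3 + 19 * 1)) +
        (χ : G → ℂ) (y ^ (3 + 19 * 2)) := by
      rw [hval _ (by omega) (by omega), hval _ (by omega) (by omega), hval _ (by omega) (by omega),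
        if_pos (by omega), if_neg (by omega), if_neg (by omega)]
      push_cast; ring
    set S : ℂ := ∑ l ∈ Finset.univ.filter (fun l => z l ^ 19 = 1), z l ^ 3 with hS
    have h2 : ((a + 2 * b : ℤ) : ℂ) = 3 * S := by
      rw [h1, hpow, hpow, hpow, ← Finset.sum_add_distrib, ← Finset.sum_add_distrib, hS, Finset.mul_sum,
        Finset.sum_filter]
      refine Finset.sum_congr rfl fun l _ => ?_
      have hg := geom_root (n := 3) (z := z l ^ 19) (by rw [← pow_mul]; exact hz l)
      rw [Finset.sum_range_succ, Finset.sum_range_succ, Finset.sum_range_one] at hg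
      rw [pow_add, pow_add, pow_add, pow_mul, pow_mul, pow_mul, ← mul_add, ← mul_add, hg]
      simp only [pow_one]
      split_ifs <;> push_cast <;> ring
    have hint : IsIntegral ℤ S := IsIntegral.sum _ fun l _ =>
      IsIntegral.of_pow (n := 57) (by norm_num) (by
        rw [← pow_mul, mul_comm, pow_mul, hz l, one_pow]; exact isIntegral_one)
    have hq : S = (((a + 2 * b : ℤ) : ℚ) / 3 : ℚ) := by
      push_cast
      rw [eq_div_iff (by norm_num)]
      push_cast at h2
      linear_combination -h2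
    obtain ⟨w, hw⟩ := exists_int_of_isIntegral_rat (hq ▸ hint)
    refine ⟨w, ?_⟩
    have : ((a + 2 * b : ℤ) : ℚ) = ((3 * w : ℤ) : ℚ) := by push_cast at hw ⊢; linarith
    exact_mod_cast this

/-- The case is impossible. -/
theorem exclusion [Fact (Nat.Prime 19)] (hG : Nat.card G = 50232960) (X : Subgroup G) (hX : Nat.card X = 19)
    (hC : Nat.card (centralizer (X : Set G)) = 57) (he : Nat.card (aut X) = 3)
    (hch : ∀ d ∈ [2754, 816, 324], ∃ χ : IrrCharacter G, χ ≠ principalIrr G ∧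
      (χ : G → ℂ) 1 = ((d : ℕ) : ℂ) ∧ IsRat χ) : False := by
  classical
  haveI : Fact (Nat.Prime 3) := ⟨by norm_num⟩
  -- a generator of the centraliser
  obtain ⟨⟨r, hr⟩, hro⟩ := exists_prime_orderOf_dvd_card' (G := centralizer (X : Set G)) 3 (hC ▸ by norm_num)
  obtain ⟨⟨x, hx⟩, hxo⟩ := exists_prime_orderOf_dvd_card' (G := X) 19 (dvd_of_eq hX.symm)
  rw [Subgroup.orderOf_mk] at hro hxo
  have hxr : Commute x r := mem_centralizer_iff.1 hr x hx
  have hy : orderOf (x * r) = 57 := by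
    rw [hxr.orderOf_mul_eq_mul_orderOf_of_coprime (by rw [hxo, hro]; norm_num), hxo, hro]
  set y := x * r with hydef
  have hyC : zpowers y = centralizer (X : Set G) := by
    refine eq_of_le_of_card_ge (zpowers_le.2 (mul_mem (le_centralizer_of_card hX hx) hr)) ?_
    rw [Nat.card_zpowers, hy, hC]
  have hXy : ∀ i : ℕ, ¬ 19 ∣ i → zpowers (y ^ (3 * i)) = X := by
    intro i hi
    have hy3 : y ^ 3 ∈ X := by
      rw [hydef, hxr.mul_pow, ← hro, pow_orderOf_eq_one, mul_one, hro]
      exact pow_mem hx 3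
    refine eq_of_le_of_card_ge (zpowers_le.2 (by rw [pow_mul]; exact pow_mem hy3 i)) ?_
    rw [hX, Nat.card_zpowers, orderOf_pow, hy, show (57 : ℕ) = 3 * 19 from rfl, Nat.gcd_mul_left,
      Nat.Coprime.gcd_eq_one ((Nat.Prime.coprime_iff_not_dvd (by norm_num : Nat.Prime 19)).2 hi)]
  let T := ((Finset.range 57).filter fun i => ¬ 19 ∣ i).image (y ^ ·)
  let T₀ := ((Finset.range 57).filter fun i => ¬ 19 ∣ i ∧ i % 3 = 0).image (y ^ ·)
  have hinj : Set.InjOn (y ^ ·) (Finset.range 57 : Set ℕ) := fun i hi j hj h => by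
    simp only [Finset.coe_range, Set.mem_Iio] at hi hj
    exact pow_injOn_Iio_orderOf (by rw [hy]; exact hi) (by rw [hy]; exact hj) h
  have hinjT : Set.InjOn (y ^ ·) (((Finset.range 57).filter fun i => ¬ 19 ∣ i : Finset ℕ) : Set ℕ) :=
    hinj.mono fun i hi => (Finset.mem_filter.1 hi).1
  have hinjT₀ : Set.InjOn (y ^ ·) (((Finset.range 57).filter fun i => ¬ 19 ∣ i ∧ i % 3 = 0 : Finset ℕ) : Set ℕ) :=
    hinj.mono fun i hi => (Finset.mem_filter.1 hi).1
  have hTmem : ∀ s ∈ T, ∃ i < 57, ¬ 19 ∣ i ∧ y ^ i = s := by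
    intro s hs
    obtain ⟨i, hi, rfl⟩ := Finset.mem_image.1 hs
    obtain ⟨h1, h2⟩ := Finset.mem_filter.1 hi
    exact ⟨i, Finset.mem_range.1 h1, h2, rfl⟩
  have hsub : T₀ ⊆ T := Finset.image_subset_image fun i hi => by
    obtain ⟨h1, h2⟩ := Finset.mem_filter.1 hi
    exact Finset.mem_filter.2 ⟨h1, h2.1⟩
  have hcent : ∀ s ∈ T, Nat.card (centralizer ({s} : Set G)) ≤ 57 := by
    intro s hs
    obtain ⟨i, -, h19, rfl⟩ := hTmem s hs
    rw [← hC]
    refine Subgroup.card_le_of_le fun g hg => mem_centralizer_iff.2 fun w hw => ?_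
    rw [SetLike.mem_coe, ← hXy i h19, mul_comm 3 i, pow_mul] at hw
    obtain ⟨l, rfl⟩ := mem_zpowers_iff.1 hw
    exact (((show Commute (y ^ i) g from (mem_centralizer_singleton_iff.1 hg).symm).pow_left 3).zpow_left l).eq
  have hfus : ∀ s ∈ T, ∀ [DecidablePred (IsConj s)], (T.filter (IsConj s)).card ≤ 3 := by
    intro s hs _
    set N := normalizer (X : Set G)
    let K := X.normalizerMonoidHom.ker
    haveI : Fintype (↥N ⧸ K) := Fintype.ofFinite _
    have hcardQ : Fintype.card (↥N ⧸ K) = 3 := by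
      rw [← Nat.card_eq_fintype_card, Nat.card_congr (QuotientGroup.quotientKerEquivRange X.normalizerMonoidHom).toEquiv]
      exact he
    calc (T.filter (IsConj s)).card ≤ ((Finset.univ : Finset (↥N ⧸ K)).image
          fun q => (q.out : G) * s * (q.out : G)⁻¹).card := Finset.card_le_card fun s' hs' => by
          obtain ⟨hs'T, hconj⟩ := Finset.mem_filter.1 hs'
          obtain ⟨g, hg⟩ := isConj_iff.1 hconj
          obtain ⟨i, -, hi19, hi⟩ := hTmem s hs
          obtain ⟨j, -, hj19, hj⟩ := hTmem s' hs'T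
          have hmap : X.map (MulAut.conj g).toMonoidHom = X := by
            conv_lhs => rw [← hXy i hi19]
            rw [MonoidHom.map_zpowers, show (MulAut.conj g).toMonoidHom (y ^ (3 * i)) = y ^ (3 * j) by
              show g * y ^ (3 * i) * g⁻¹ = y ^ (3 * j)
              rw [mul_comm 3 i, mul_comm 3 j, pow_mul, pow_mul, ← conj_pow, hi, hj, hg], hXy j hj19]
          have hgN : g ∈ N := mem_normalizer_iff.2 fun w => by
            refine ⟨fun hw => hmap ▸ mem_map_of_mem _ hw, fun hw => ?_⟩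
            rw [← hmap] at hw
            obtain ⟨w', hw', e'⟩ := hw
            exact (MulAut.conj g).injective e' ▸ hw'
          refine Finset.mem_image.2 ⟨QuotientGroup.mk ⟨g, hgN⟩, Finset.mem_univ _, ?_⟩
          obtain ⟨c, hc⟩ := QuotientGroup.mk_out_eq_mul K (⟨g, hgN⟩ : ↥N)
          rw [hc, Subgroup.coe_mul]
          have hcC : ((c : ↥N) : G) ∈ centralizer (X : Set G) := by
            have h := c.2
            simp only [K, normalizerMonoidHom_ker, mem_subgroupOf] at h
            exact h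
          have hcs : ((c : ↥N) : G) * s = s * (c : ↥N) := by
            rw [← hyC] at hcC
            obtain ⟨l, hl⟩ := mem_zpowers_iff.1 hcC
            rw [← hl, ← hi]
            exact ((Commute.refl y).zpow_left l).pow_right i
          calc g * (c : ↥N) * s * (g * (c : ↥N))⁻¹ = g * (((c : ↥N) : G) * s * ((c : ↥N) : G)⁻¹) * g⁻¹ := by group
            _ = s' := by rw [hcs, mul_inv_cancel_right, hg]
      _ ≤ 3 := Finset.card_image_le.trans_eq (by rw [Finset.card_univ, hcardQ])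
  have hT : T.card = 54 ∧ T₀.card = 18 := by
    refine ⟨?_, ?_⟩
    · rw [Finset.card_image_of_injOn hinjT]; exact count_T.1
    · rw [Finset.card_image_of_injOn hinjT₀]; exact count_T.2.1
  -- values at the two kinds of elements
  have hvals : ∀ χ : IrrCharacter G, IsRat χ → ∀ d : ℕ, (χ : G → ℂ) 1 = d → (d % 19 = 1 ∨ d % 19 = 18) →
      ∃ α : ℤ, ∑ s ∈ T, (χ : G → ℂ) s = ((18 * α : ℤ) : ℂ) ∧ 9 ≤ α * α := by
    intro χ hχ d hd hd19
    obtain ⟨a, b, hval, h19, h3⟩ := two_values hχ hG hy hd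
    have hT0 : ∑ s ∈ T₀, (χ : G → ℂ) s = ((18 * a : ℤ) : ℂ) := by
      rw [Finset.sum_image hinjT₀,
        Finset.sum_congr rfl (g := fun _ => (a : ℂ)) fun i hi => by
          obtain ⟨h1, h2⟩ := Finset.mem_filter.1 hi
          rw [hval i (Finset.mem_range.1 h1) h2.1, if_pos h2.2],
        Finset.sum_const, count_T.2.1, nsmul_eq_mul]
      push_cast; ring
    have hb2 := sum_sq_le T₀ 57 3 (fun s hs => hcent s (hsub hs))
      (fun s hs _ => (Finset.card_le_card (Finset.filter_subset_filter _ hsub)).trans (hfus s (hsub hs)))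
      {χ} (fun _ => 18 * a) (fun χ' hχ' => by rw [Finset.mem_singleton] at hχ'; rw [hχ']; exact hT0)
    rw [Finset.sum_singleton, hT.2] at hb2
    push_cast at hb2
    have ha3 : -3 ≤ a ∧ a ≤ 3 := by constructor <;> nlinarith
    have hodd : a % 2 = 1 := by omega
    refine ⟨a + 2 * b, ?_, ?_⟩
    · rw [Finset.sum_image hinjT, Finset.sum_congr rfl fun i hi => by
          obtain ⟨h1, h2⟩ := Finset.mem_filter.1 hi
          rw [hval i (Finset.mem_range.1 h1) h2]]
      rw [Finset.sum_ite, Finset.filter_filter, Finset.filter_filter, Finset.sum_const, Finset.sum_const,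
        count_T.2.1, count_T.2.2, nsmul_eq_mul, nsmul_eq_mul]
      push_cast; ring
    · obtain ⟨c, hc⟩ := h3
      have : c ≠ 0 := fun h0 => by rw [h0, mul_zero] at hc; omega
      rw [hc]
      have := mul_self_pos.2 this
      nlinarith
  obtain ⟨χA, hA1, hAd, hAr⟩ := hch 2754 (by simp)
  obtain ⟨χB, hB1, hBd, hBr⟩ := hch 816 (by simp)
  obtain ⟨χC, hC1, hCd, hCr⟩ := hch 324 (by simp)
  have hPd : ((principalIrr G : IrrCharacter G) : G → ℂ) 1 = ((1 : ℕ) : ℂ) := by simp
  have hPr : IsRat (principalIrr G) := fun τ g => by simp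
  obtain ⟨vA, sA, bA⟩ := hvals χA hAr 2754 hAd (by norm_num)
  obtain ⟨vB, sB, bB⟩ := hvals χB hBr 816 hBd (by norm_num)
  obtain ⟨vC, sC, bC⟩ := hvals χC hCr 324 hCd (by norm_num)
  obtain ⟨vP, sP, bP⟩ := hvals _ hPr 1 hPd (by norm_num)
  have nAB : χA ≠ χB := fun h => by rw [h, hBd] at hAd; norm_num at hAd
  have nAC : χA ≠ χC := fun h => by rw [h, hCd] at hAd; norm_num at hAd
  have nBC : χB ≠ χC := fun h => by rw [h, hCd] at hBd; norm_num at hBd
  let v : IrrCharacter G → ℤ := fun χ =>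
    if χ = χA then 18 * vA else if χ = χB then 18 * vB else if χ = χC then 18 * vC else 18 * vP
  have hbound := sum_sq_le T 57 3 hcent hfus {principalIrr G, χA, χB, χC} v (fun χ hχ => by
    simp only [Finset.mem_insert, Finset.mem_singleton] at hχ
    rcases hχ with rfl | rfl | rfl | rfl
    · simp only [v, if_neg hA1.symm, if_neg hB1.symm, if_neg hC1.symm]; exact sP
    · simp only [v, if_true]; exact sA
    · simp only [v, if_neg nAB.symm, if_true]; exact sB
    · simp only [v, if_neg nAC.symm, if_neg nBC.symm, if_true]; exact sC)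
  rw [Finset.sum_insert (by simp [hA1.symm, hB1.symm, hC1.symm]), Finset.sum_insert (by simp [nAB, nAC]),
    Finset.sum_pair nBC, hT.1] at hbound
  simp only [v, if_neg hA1.symm, if_neg hB1.symm, if_neg hC1.symm, if_neg nAB.symm, if_neg nAC.symm,
    if_neg nBC.symm, if_true] at hbound
  push_cast at hbound
  nlinarith

end CfsgLib.JThree.PLocal
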