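import Cfsg.Agent.Lib.JThree.PLocal.Seventeen
import Cfsg.Agent.Lib.JThree.PLocal.Exclusion

/-!
A Sylow 19-subgroup of a group of J₃-type is self-centralising with automiser of order nine.
-/

set_option autoImplicit false
set_option linter.unusedSectionVars false
set_option linter.style.haveILetI false

namespace CfsgLib.JThree.PLocal

open Subgroup Cfsg CfsgLib.Characters

theorem arith19 : ∀ a : Fin 6, ∀ b : Fin 2, ([2, 3, 6, 9, 18].all fun e =>
    !Nat.beq ((3 ^ a.val * 5 ^ b.val * e) % 19) 9 ||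
      (Nat.beq (3 ^ a.val * 5 ^ b.val) 1 && Nat.beq e 9) ||
      (Nat.beq (3 ^ a.val * 5 ^ b.val) 3 && Nat.beq e 3)) = true := by decide +kernel

variable {G : Type*} [Group G] [Fintype G] (F : Facts G)
include F

theorem seventeen_not_dvd [IsSimpleGroup G] [Fact (Nat.Prime 19)] (X : Subgroup G) (hX : Nat.card X = 19) :
    ¬ 17 ∣ Nat.card (centralizer (X : Set G)) := by
  intro h
  haveI : Fact (Nat.Prime 17) := ⟨by norm_num⟩
  obtain ⟨⟨y, hy⟩, hyo⟩ := exists_prime_orderOf_dvd_card' (G := centralizer (X : Set G)) 17 h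
  rw [Subgroup.orderOf_mk] at hyo
  obtain ⟨P, hP⟩ := (IsPGroup.of_card (p := 17) (n := 1)
    (by rw [Nat.card_zpowers, hyo, pow_one] : Nat.card (zpowers y) = 17 ^ 1)).exists_le_sylow
  have hPc : Nat.card (P : Subgroup G) = 17 := by
    rw [P.card_eq_multiplicity, F.card, show (50232960 : ℕ) = 17 * 2954880 from rfl,
      Nat.factorization_mul (by norm_num) (by norm_num), Finsupp.add_apply,
      Nat.Prime.factorization_self (by norm_num), Nat.factorization_eq_zero_of_not_dvd (by norm_num)]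
    norm_num
  have hPy : (P : Subgroup G) = zpowers y :=
    (eq_of_le_of_card_ge hP (by rw [hPc, Nat.card_zpowers, hyo])).symm
  have hle : X ≤ (P : Subgroup G) := by
    rw [← (seventeen F P).1]
    intro x hx
    refine mem_centralizer_iff.2 fun w hw => ?_
    rw [SetLike.mem_coe, hPy] at hw
    obtain ⟨l, rfl⟩ := mem_zpowers_iff.1 hw
    exact ((show Commute y x from (mem_centralizer_iff.1 hy x hx).symm).zpow_left l).eq
  have := card_dvd_of_le hle
  rw [hX, hPc] at this
  norm_num at this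

/-- A Sylow 19-subgroup is self-centralising with automiser of order nine. -/
theorem nineteen [IsSimpleGroup G] [Fact (Nat.Prime 19)] (P : Sylow 19 G)
    (hch : ∀ d ∈ [2754, 816, 324], ∃ χ : IrrCharacter G, χ ≠ principalIrr G ∧
      (χ : G → ℂ) 1 = ((d : ℕ) : ℂ) ∧ IsRat χ) :
    centralizer ((P : Subgroup G) : Set G) = P ∧ Nat.card (aut (P : Subgroup G)) = 9 := by
  have hP : Nat.card (P : Subgroup G) = 19 := by
    rw [P.card_eq_multiplicity, F.card, show (50232960 : ℕ) = 19 * 2643840 from rfl,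
      Nat.factorization_mul (by norm_num) (by norm_num), Finsupp.add_apply,
      Nat.Prime.factorization_self (by norm_num), Nat.factorization_eq_zero_of_not_dvd (by norm_num)]
    norm_num
  obtain ⟨m, n, hm, hn, hM, he1, hed⟩ := data F.nc (M := 2643840) F.card P hP
  have hodd : ¬ 2 ∣ m := fun h => cent_odd F _ hP (by norm_num) (hm ▸ dvd_mul_of_dvd_right h 19)
  have h17 : ¬ 17 ∣ m := fun h => seventeen_not_dvd F _ hP (hm ▸ dvd_mul_of_dvd_right h 19)
  have hmd : m ∣ 3 ^ 5 * 5 := by
    have h1 : m ∣ 3 ^ 5 * 5 * 17 := by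
      refine (Nat.Coprime.dvd_mul_left ((Nat.prime_two.coprime_iff_not_dvd.2 hodd).symm.pow_right 7)).1 ?_
      rw [show 2 ^ 7 * (3 ^ 5 * 5 * 17) = 2643840 from rfl, ← hM, mul_assoc]
      exact dvd_mul_right _ _
    exact (Nat.Coprime.dvd_mul_right
      ((show Nat.Prime 17 by norm_num).coprime_iff_not_dvd.2 h17).symm).1 h1
  obtain ⟨y1, y2, hy1, hy2, rfl⟩ := Nat.dvd_mul.1 hmd
  obtain ⟨a, ha, rfl⟩ := (Nat.dvd_prime_pow (by norm_num : Nat.Prime 3)).1 hy1
  obtain ⟨b, hb, rfl⟩ := (Nat.dvd_prime_pow (by norm_num : Nat.Prime 5)).1 (show y2 ∣ 5 ^ 1 by simpa using hy2)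
  have hmod : (3 ^ a * 5 ^ b * Nat.card (aut (P : Subgroup G))) % 19 = 9 := by
    have := congrArg (· % 19) hM
    simp only [Nat.mul_mod _ n, hn, mul_one, Nat.mod_mod] at this
    exact this
  have he : Nat.card (aut (P : Subgroup G)) ∈ [2, 3, 6, 9, 18] := by
    have h := Nat.mem_divisors.2 ⟨hed, by norm_num⟩
    rw [show Nat.divisors (19 - 1) = {1, 2, 3, 6, 9, 18} from by decide +kernel] at h
    simp only [Finset.mem_insert, Finset.mem_singleton] at h
    simp only [List.mem_cons, List.not_mem_nil, or_false]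
    rcases h with h | h | h | h | h | h
    · exact absurd h he1
    all_goals simp [h]
  have h19 := List.all_eq_true.1 (arith19 ⟨a, by omega⟩ ⟨b, by omega⟩) _ he
  rw [hmod] at h19
  simp only [Nat.beq_refl, Bool.not_true, Bool.false_or, Bool.or_eq_true, Bool.and_eq_true, Nat.beq_eq] at h19
  rcases h19 with ⟨hm1, h9⟩ | ⟨hm3, h3⟩
  · refine ⟨(eq_of_le_of_card_ge (le_centralizer_of_card hP) ?_).symm, h9⟩
    rw [hm, hm1, hP]
  · exact (exclusion F.card _ hP (by rw [hm, hm3]) h3 hch).elim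

end CfsgLib.JThree.PLocal
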