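import Cfsg.Agent.Lib.JThree.PLocal.Basic

/-!
A Sylow 17-subgroup of a group of J₃-type is self-centralising with automiser of order eight.
-/

set_option autoImplicit false
set_option linter.unusedSectionVars false
set_option linter.style.haveILetI false

namespace CfsgLib.JThree.PLocal

open Subgroup

/-- Divisors of the odd part prime to 17. -/
theorem split_dvd {m : ℕ} (h : m ∣ 3 ^ 5 * 5 * 19) :
    ∃ a ≤ 5, ∃ b ≤ 1, ∃ c ≤ 1, m = 3 ^ a * 5 ^ b * 19 ^ c := by
  obtain ⟨y, z, hy, hz, rfl⟩ := Nat.dvd_mul.1 h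
  obtain ⟨y1, y2, hy1, hy2, rfl⟩ := Nat.dvd_mul.1 hy
  obtain ⟨a, ha, rfl⟩ := (Nat.dvd_prime_pow (by norm_num : Nat.Prime 3)).1 hy1
  obtain ⟨b, hb, rfl⟩ := (Nat.dvd_prime_pow (by norm_num : Nat.Prime 5)).1 (show y2 ∣ 5 ^ 1 by simpa using hy2)
  obtain ⟨c, hc, rfl⟩ := (Nat.dvd_prime_pow (by norm_num : Nat.Prime 19)).1 (show z ∣ 19 ^ 1 by simpa using hz)
  exact ⟨a, ha, b, hb, c, hc, rfl⟩

theorem arith17 : ∀ a : Fin 6, ∀ b : Fin 2, ∀ c : Fin 2, ([2, 4, 8, 16].all fun e =>
    !Nat.beq ((3 ^ a.val * 5 ^ b.val * 19 ^ c.val * e) % 17) 8 || Nat.beq e 16 ||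
      (Nat.beq (e % 4) 0 && Nat.beq c.val 1) ||
      (Nat.beq a.val 0 && Nat.beq b.val 0 && Nat.beq c.val 0 && Nat.beq e 8)) = true := by decide +kernel

variable {G : Type*} [Group G] [Finite G]

/-- What is used about the group. -/
structure Facts (G : Type*) [Group G] : Prop where
  card : Nat.card G = 50232960
  cent : ∀ u : G, orderOf u = 2 → Nat.card (centralizer ({u} : Set G)) = 1920
  sixteen : ∀ g : G, orderOf g ≠ 16

theorem Facts.nc [IsSimpleGroup G] (F : Facts G) : ¬ IsMulCommutative G := by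
  intro hc
  haveI := hc
  obtain ⟨u, hu⟩ := exists_prime_orderOf_dvd_card' (G := G) 2 (hp := ⟨Nat.prime_two⟩)
    (F.card ▸ by norm_num)
  have h := F.cent u hu
  rw [show centralizer ({u} : Set G) = ⊤ from top_unique fun g _ =>
    mem_centralizer_singleton_iff.2 (mul_comm' g u), Subgroup.card_top, F.card] at h
  omega

variable (F : Facts G)
include F

theorem no_inv {g u : G} {p : ℕ} (hg : orderOf g = p) (hp : ¬ p ∣ 1920) (hu : orderOf u = 2)
    (h : g * u = u * g) : False := by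
  refine hp ?_
  rw [← F.cent u hu, ← hg, ← Subgroup.orderOf_mk g (mem_centralizer_singleton_iff.2 h)]
  exact orderOf_dvd_natCard _

theorem cent_odd (P : Subgroup G) {p : ℕ} [hp : Fact p.Prime] (hP : Nat.card P = p) (hpd : ¬ p ∣ 1920) :
    ¬ 2 ∣ Nat.card (centralizer (P : Set G)) := by
  intro h2
  obtain ⟨⟨u, hu⟩, ho⟩ := exists_prime_orderOf_dvd_card' (G := centralizer (P : Set G)) 2 (hp := ⟨Nat.prime_two⟩) h2
  obtain ⟨⟨g, hg⟩, hgo⟩ := exists_prime_orderOf_dvd_card' (G := P) p (hP ▸ dvd_refl p)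
  exact no_inv F (by rwa [Subgroup.orderOf_mk] at hgo) hpd (by rwa [Subgroup.orderOf_mk] at ho)
    (mem_centralizer_iff.1 hu g hg)

/-- The automiser of a 17-group is not of order sixteen. -/
theorem aut_ne_sixteen (P : Subgroup G) [hp : Fact (Nat.Prime 17)] (hP : Nat.card P = 17) :
    Nat.card (aut P) ≠ 16 := by
  intro h16
  haveI := (card_aut_dvd hP).2
  obtain ⟨⟨a, ha'⟩, hgen⟩ := IsCyclic.exists_generator (α := aut P)
  obtain ⟨g, hg⟩ := MonoidHom.mem_range.1 ha'
  have ha : orderOf a = 16 := by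
    rw [← Subgroup.orderOf_mk a ha', orderOf_eq_card_of_forall_mem_zpowers hgen, h16]
  obtain ⟨q, hq⟩ : 16 ∣ orderOf g := ha ▸ hg ▸ orderOf_map_dvd P.normalizerMonoidHom g
  have hpos := orderOf_pos g
  refine F.sixteen ((g ^ q : normalizer (P : Set G)) : G) ?_
  rw [Subgroup.orderOf_coe, orderOf_pow, hq, Nat.gcd_mul_left_left, Nat.mul_div_cancel _ (by
    rcases q.eq_zero_or_pos with rfl | h
    · rw [mul_zero] at hq; exact absurd hq hpos.ne'
    · exact h)]

/-- If four divides the automiser of a 17-group, nineteen does not divide the centraliser. -/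
theorem no_nineteen (P : Subgroup G) [hp : Fact (Nat.Prime 17)] (hP : Nat.card P = 17)
    (h4 : 4 ∣ Nat.card (aut P)) : ¬ 19 ∣ Nat.card (centralizer (P : Set G)) := by
  intro h19
  haveI : Fact (Nat.Prime 19) := ⟨by norm_num⟩
  set C := centralizer (P : Set G) with hC
  set N := normalizer (P : Set G) with hN
  obtain ⟨⟨x, hxC⟩, hxo⟩ := exists_prime_orderOf_dvd_card' (G := C) 19 h19
  rw [Subgroup.orderOf_mk] at hxo
  haveI := (card_aut_dvd hP).2
  obtain ⟨⟨a, ha'⟩, hgen⟩ := IsCyclic.exists_generator (α := aut P)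
  obtain ⟨g, hg⟩ := MonoidHom.mem_range.1 ha'
  have ha : orderOf a = Nat.card (aut P) := by
    rw [← Subgroup.orderOf_mk a ha', orderOf_eq_card_of_forall_mem_zpowers hgen]
  -- the conjugate of `x` in the centraliser
  have hnorm : (g : G) * x * (g : G)⁻¹ ∈ C := by
    refine mem_centralizer_iff.2 fun y hy => ?_
    have hy' : (g : G)⁻¹ * y * g ∈ P := by
      have h := (mem_normalizer_iff.1 (inv_mem g.2) y).1 hy
      simpa using h
    have h := mem_centralizer_iff.1 hxC _ hy'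
    calc y * ((g : G) * x * (g : G)⁻¹) = g * ((g : G)⁻¹ * y * g * x) * (g : G)⁻¹ := by group
      _ = g * x * (g : G)⁻¹ * y := by rw [h]; group
  let x₀ : C := ⟨x, hxC⟩
  let x₁ : C := ⟨(g : G) * x * (g : G)⁻¹, hnorm⟩
  have hx0 : orderOf x₀ = 19 := by rw [Subgroup.orderOf_mk, hxo]
  have hx1 : orderOf x₁ = 19 := by
    rw [Subgroup.orderOf_mk]
    exact ((MulAut.conj (g : G)).orderOf_eq x).trans hxo
  have hsyl : ∀ w : C, orderOf w = 19 → ∃ S : Sylow 19 C, (S : Subgroup C) = zpowers w := by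
    intro w hw
    have hg2 : IsPGroup 19 (zpowers w) := IsPGroup.of_card (n := 1) (by rw [Nat.card_zpowers, hw, pow_one])
    obtain ⟨S, hS⟩ := hg2.exists_le_sylow
    refine ⟨S, (eq_of_le_of_card_ge hS ?_).symm⟩
    obtain ⟨k, hk⟩ := S.isPGroup'.exists_card_eq
    rw [Nat.card_zpowers, hw, hk]
    have hd : 19 ^ k ∣ 50232960 := F.card ▸ hk ▸ (card_subgroup_dvd_card (S : Subgroup C)).trans (card_subgroup_dvd_card C)
    rcases Nat.lt_or_ge k 2 with h | h
    · interval_cases k <;> norm_num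
    · exact absurd ((pow_dvd_pow 19 h).trans hd) (by norm_num)
  obtain ⟨S0, hS0⟩ := hsyl x₀ hx0
  obtain ⟨S1, hS1⟩ := hsyl x₁ hx1
  obtain ⟨c, hc⟩ := MulAction.exists_smul_eq C S1 S0
  have hcx : (c : G) * ((g : G) * x * (g : G)⁻¹) * (c : G)⁻¹ ∈ zpowers x := by
    have h : c * x₁ * c⁻¹ ∈ (S0 : Subgroup C) := by
      rw [← hc, Sylow.coe_subgroup_smul, hS1]
      exact Subgroup.mem_pointwise_smul_iff_inv_smul_mem.2 (by simp [mul_assoc, mem_zpowers])
    rw [hS0] at h
    obtain ⟨i, hi⟩ := mem_zpowers_iff.1 h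
    exact mem_zpowers_iff.2 ⟨i, congrArg Subtype.val hi⟩
  -- the combined element
  let cN : N := ⟨c, CfsgLib.Small.centralizer_le_normalizer' P c.2⟩
  set u : N := cN * g with hu
  have hfu : P.normalizerMonoidHom u = a := by
    have hk : cN ∈ P.normalizerMonoidHom.ker := by
      rw [normalizerMonoidHom_ker, mem_subgroupOf]; exact c.2
    rw [hu, map_mul, MonoidHom.mem_ker.1 hk, one_mul, hg]
  have hux : (u : G) * x * (u : G)⁻¹ ∈ zpowers x := by
    convert hcx using 1
    simp only [hu, cN, Subgroup.coe_mul]; group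
  -- a power of it of two-power order
  obtain ⟨k, b, hb, hk⟩ := Nat.exists_eq_two_pow_mul_odd (orderOf_pos u).ne'
  set e := Nat.card (aut P) with he
  have he16 : e ∣ 16 := (card_aut_dvd hP).1
  set w : N := u ^ b with hw
  have hfw : orderOf (P.normalizerMonoidHom w) = e := by
    rw [hw, map_pow, hfu, orderOf_pow, ha, Nat.Coprime.gcd_eq_one, Nat.div_one]
    exact Nat.Coprime.coprime_dvd_left he16
      ((Nat.prime_two.coprime_iff_not_dvd.2 (by rw [← even_iff_two_dvd, Nat.not_even_iff_odd]; exact hb)).pow_left 4)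
  have hw2 : orderOf w ∣ 2 ^ k := by
    rw [orderOf_dvd_iff_pow_eq_one, hw, ← pow_mul, mul_comm, ← hk, pow_orderOf_eq_one]
  -- the action on `x`
  set X := zpowers x with hX
  haveI : Fact (Nat.Prime 19) := ⟨by norm_num⟩
  have hXc : Nat.card X = 19 := by rw [hX, Nat.card_zpowers, hxo]
  have hwX : (w : G) ∈ normalizer (X : Set G) := by
    have huX : (u : G) ∈ normalizer (X : Set G) := by
      refine mem_normalizer_iff.2 fun y => ⟨fun hy => ?_, fun hy => ?_⟩
      · obtain ⟨i, rfl⟩ := mem_zpowers_iff.1 hy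
        rw [← conj_zpow]; exact zpow_mem hux i
      · have hmap : X.map (MulAut.conj (u : G)).toMonoidHom = X := by
          refine eq_of_le_of_card_ge ?_ (le_of_eq (Subgroup.card_map_of_injective (MulAut.conj (u : G)).injective).symm)
          rintro _ ⟨y, hy, rfl⟩
          obtain ⟨i, rfl⟩ := mem_zpowers_iff.1 hy
          show (u : G) * x ^ i * (u : G)⁻¹ ∈ X
          rw [← conj_zpow]; exact zpow_mem hux i
        rw [← hmap] at hy
        obtain ⟨z', hz', e'⟩ := hy
        have : z' = y := (MulAut.conj (u : G)).injective e'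
        exact this ▸ hz'
    rw [hw, SubgroupClass.coe_pow]
    exact pow_mem huX b
  have hact : (X.normalizerMonoidHom ⟨w, hwX⟩) ^ 2 = 1 := by
    rw [← orderOf_dvd_iff_pow_eq_one]
    have h1 : orderOf (X.normalizerMonoidHom ⟨w, hwX⟩) ∣ 2 ^ k := by
      refine (orderOf_map_dvd _ _).trans ?_
      rw [Subgroup.orderOf_mk, Subgroup.orderOf_coe]; exact hw2
    have h2 : orderOf (X.normalizerMonoidHom ⟨w, hwX⟩) ∣ 18 := by
      have h := orderOf_dvd_natCard (X.normalizerMonoidHom ⟨w, hwX⟩)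
      rwa [(card_mulAut hXc).1] at h
    refine (Nat.dvd_gcd h1 h2).trans ?_
    rw [show (18 : ℕ) = 9 * 2 from rfl, Nat.Coprime.gcd_mul_left_cancel_right _ (by
      exact (Nat.Coprime.pow_left _ (by norm_num : Nat.Coprime 2 9)).symm)]
    exact Nat.gcd_dvd_right _ _
  have hcomm : x * ((w : G) ^ 2) = (w : G) ^ 2 * x := by
    rw [← map_pow] at hact
    have hk' : (⟨w, hwX⟩ : normalizer (X : Set G)) ^ 2 ∈ X.normalizerMonoidHom.ker := hact
    rw [normalizerMonoidHom_ker, mem_subgroupOf, SubgroupClass.coe_pow] at hk'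
    exact mem_centralizer_iff.1 hk' x (mem_zpowers x)
  have hne : (w : G) ^ 2 ≠ 1 := by
    intro h
    have h' : w ^ 2 = 1 := Subtype.ext (by simpa using h)
    have := congrArg P.normalizerMonoidHom h'
    rw [map_pow, map_one] at this
    have h2 := orderOf_dvd_of_pow_eq_one this
    rw [hfw] at h2
    exact absurd (h4.trans h2) (by norm_num)
  obtain ⟨l, -, hl'⟩ := (Nat.dvd_prime_pow Nat.prime_two).1
    (show orderOf ((w : G) ^ 2) ∣ 2 ^ k from (orderOf_pow_dvd 2).trans (by rw [Subgroup.orderOf_coe]; exact hw2))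
  obtain ⟨l', rfl⟩ : ∃ l', l = l' + 1 := Nat.exists_eq_succ_of_ne_zero fun h => by
    rw [h, pow_zero, orderOf_eq_one_iff] at hl'; exact hne hl'
  have hinv : orderOf (((w : G) ^ 2) ^ (2 ^ l')) = 2 := by
    rw [orderOf_pow, hl', pow_succ, Nat.gcd_mul_right_left, Nat.mul_div_cancel_left _ (Nat.two_pow_pos _)]
  exact no_inv F hxo (by norm_num) hinv (Commute.pow_right hcomm _)

/-- A Sylow 17-subgroup is self-centralising with automiser of order eight. -/
theorem seventeen [IsSimpleGroup G] [Fact (Nat.Prime 17)] (P : Sylow 17 G) :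
    centralizer ((P : Subgroup G) : Set G) = P ∧ Nat.card (aut (P : Subgroup G)) = 8 := by
  have hP : Nat.card (P : Subgroup G) = 17 := by
    rw [P.card_eq_multiplicity, F.card, show (50232960 : ℕ) = 17 * 2954880 from rfl,
      Nat.factorization_mul (by norm_num) (by norm_num), Finsupp.add_apply,
      Nat.Prime.factorization_self (by norm_num), Nat.factorization_eq_zero_of_not_dvd (by norm_num)]
    norm_num
  obtain ⟨m, n, hm, hn, hM, he1, hed⟩ := data F.nc (M := 2954880) F.card P hP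
  have hodd : ¬ 2 ∣ m := fun h => cent_odd F _ hP (by norm_num) (hm ▸ dvd_mul_of_dvd_right h 17)
  have hmd : m ∣ 3 ^ 5 * 5 * 19 := by
    refine (Nat.Coprime.dvd_mul_left ((Nat.prime_two.coprime_iff_not_dvd.2 hodd).symm.pow_right 7)).1 ?_
    rw [show 2 ^ 7 * (3 ^ 5 * 5 * 19) = 2954880 from rfl, ← hM, mul_assoc]
    exact dvd_mul_right _ _
  obtain ⟨a, ha, b, hb, c, hc, rfl⟩ := split_dvd hmd
  have hmod : (3 ^ a * 5 ^ b * 19 ^ c * Nat.card (aut (P : Subgroup G))) % 17 = 8 := by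
    have := congrArg (· % 17) hM
    simp only [Nat.mul_mod _ n, hn, mul_one, Nat.mod_mod] at this
    exact this
  have he : Nat.card (aut (P : Subgroup G)) ∈ [2, 4, 8, 16] := by
    obtain ⟨l, hl, he⟩ := (Nat.dvd_prime_pow Nat.prime_two).1
      (show Nat.card (aut (P : Subgroup G)) ∣ 2 ^ 4 by simpa using hed)
    rw [he] at he1 ⊢
    interval_cases l <;> simp at he1 ⊢
  have h17 := List.all_eq_true.1 (arith17 ⟨a, by omega⟩ ⟨b, by omega⟩ ⟨c, by omega⟩) _ he
  rw [hmod] at h17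
  simp only [Nat.beq_refl, Bool.not_true, Bool.false_or, Bool.or_eq_true, Bool.and_eq_true, Nat.beq_eq] at h17
  rcases h17 with (h | ⟨h, hc1⟩) | ⟨⟨⟨ha0, hb0⟩, hc0⟩, h8⟩
  · exact absurd h (aut_ne_sixteen F _ hP)
  · refine absurd ?_ (no_nineteen F _ hP (Nat.dvd_of_mod_eq_zero h))
    rw [hm, hc1]
    exact dvd_mul_of_dvd_right (dvd_mul_of_dvd_right (dvd_refl 19) _) _
  · refine ⟨(eq_of_le_of_card_ge (le_centralizer_of_card hP) ?_).symm, h8⟩
    rw [hm, hP, ha0, hb0, hc0]; norm_num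

end CfsgLib.JThree.PLocal
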