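import Cfsg.Agent.Lib.JThree.Order
import Cfsg.Agent.Lib.JThree.PLocal.Seventeen

/-!
A group of J₃-type has no element of order sixteen, and its further data.
-/

set_option autoImplicit false
set_option maxRecDepth 100000
set_option linter.unusedSectionVars false

namespace CfsgLib.JThree

open CfsgLib.JankoCent (Ct tC mem_Ct)

theorem Model.no_sixteen : allBelow (fun x => !Nat.beq (Model.powC x 16) 0 || Nat.beq (Model.powC x 8) 0) 1920 = true := by
  decide +kernel

variable {G : Type*} [Group G] [Fintype G] {t : G} (e : Coded ↥(Ct t))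

include e in
theorem facts [IsSimpleGroup G] (ht : orderOf t = 2) (he : e.code (tC t) = 1)
    (hone : ∀ a : G, a * a = 1 → a ≠ 1 → IsConj t a) : PLocal.Facts G := by
  refine ⟨(constituents e ht he hone).1, fun u hu => ?_, fun g hg => ?_⟩
  · obtain ⟨h2, h1⟩ := CfsgLib.HJType.orderOf_eq_two.1 hu
    obtain ⟨k, hk⟩ := isConj_iff.1 (hone u h2 h1)
    rw [← e.card_eq]
    refine (Nat.card_congr ((MulAut.conj k).toEquiv.subtypeEquiv fun x => ?_)).symm
    show x ∈ Ct t ↔ k * x * k⁻¹ ∈ _
    rw [mem_Ct, Subgroup.mem_centralizer_singleton_iff, ← hk,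
      show k * x * k⁻¹ * (k * t * k⁻¹) = k * (x * t) * k⁻¹ by group,
      show k * t * k⁻¹ * (k * x * k⁻¹) = k * (t * x) * k⁻¹ by group, mul_left_inj, mul_right_inj]
  · have hg16 : g ^ 16 = 1 := by rw [← hg]; exact pow_orderOf_eq_one g
    have h8 : g ^ 8 * g ^ 8 = 1 := by rw [← pow_add]; exact hg16
    have h8' : g ^ 8 ≠ 1 := fun h => by
      have := orderOf_dvd_of_pow_eq_one h
      rw [hg] at this
      norm_num at this
    obtain ⟨k, hk⟩ := isConj_iff.1 (hone _ h8 h8').symm
    set h := k * g * k⁻¹ with hh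
    have hh8 : h ^ 8 = t := by rw [hh, conj_pow, hk]
    have hC : h ∈ Ct t := mem_Ct.2 ((congrArg (h * ·) hh8.symm).trans
      (((Commute.refl h).pow_right 8).eq.trans (congrArg (· * h) hh8)))
    have h16 : (⟨h, hC⟩ : Ct t) ^ 16 = 1 := Subtype.ext (by
      show h ^ 16 = 1
      rw [hh, conj_pow, hg16]; group)
    have hb := allBelow_spec Model.no_sixteen _ (e.lt ⟨h, hC⟩)
    rw [← e.code_pow, ← e.code_pow, h16, e.code_one] at hb
    simp only [Nat.beq_refl, Bool.not_true, Bool.false_or] at hb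
    have := congrArg Subtype.val (e.code_eq_zero.1 (Nat.eq_of_beq_eq_true hb))
    exact CfsgLib.JankoCent.t_ne_one ht (hh8 ▸ this)

end CfsgLib.JThree
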